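import Cfsg.Agent.Lib.SLThree78.Core
import Cfsg.Prelude.Def_GeometricClasses

/-!
The normaliser of a group of order 27 in three variables over a prime field without a ninth root of unity:
the statements of the steps.
-/

set_option autoImplicit false
set_option linter.unusedSectionVars false

namespace Cfsg.Agent.Lib.SLThree78.Extra

open Matrix
open Cfsg.Agent.Lib.SubfieldMax (InTr)

universe u

variable {F : Type u} [Field F]

local notation "M₃" => Matrix (Fin 3) (Fin 3) F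

/-- A matrix is that of an element of the group. -/
def InH (H : Subgroup (GL (Fin 3) F)) (A : M₃) : Prop := ∃ g ∈ H, (g : M₃) = A

/-- The cyclic shift. -/
def xm : M₃ := !![0, 0, 1; 1, 0, 0; 0, 1, 0]

/-- The diagonal generator. -/
def zm (w : F) : M₃ := !![1, 0, 0; 0, w, 0; 0, 0, w ^ 2]

/-- The products of the two generators. -/
def emm (w : F) (a b : ℕ) : M₃ := xm ^ a * zm w ^ b

/-- `qm w n` is the conjugate of the Fourier matrix by the `n`-th power of `diag(w, 1, 1)`. -/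
def qm (w : F) (n : ℕ) : M₃ :=
  (2 * w + 1)⁻¹ • !![1, w ^ n, w ^ n; w ^ (2 * n), w, w ^ 2; w ^ (2 * n), w ^ 2, w]

/-- The involution of the standard normaliser, a reflection up to sign with centre `(0, 1, -1)`. -/
def tm₀ : M₃ := !![-1, 0, 0; 0, 0, -1; 0, -1, 0]

/-- Minus a reflection, centre `(a, 1, 1)` and axis `(c, 1, 1)`. -/
def rfl₃ (a c : F) : M₃ := -(1 - (2 / (a * c + 2)) • vecMulVec ![a, 1, 1] ![c, 1, 1])

/-- `g` normalises the standard group modulo scalars. -/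
def MemN (w : F) (g : M₃) : Prop :=
  ∀ a b : ℕ, ∃ (k : F) (a' b' : ℕ), g * emm w a b = k • (emm w a' b' * g)

/-- The standing hypotheses. -/
structure Hard (p : ℕ) (w : F) (H : Subgroup (GL (Fin 3) F)) : Prop where
  prime : p.Prime
  card : Nat.card F = p
  seven : 7 ≤ p
  mod : p % 3 = 1
  prim : IsPrimitiveRoot w 3
  no_cube : ∀ c : F, c ^ 3 ≠ w
  le : H ≤ Cfsg.Geo.specialLinear (Fin 3) F
  memScalar : InH H (w • (1 : M₃))
  memX : InH H xm
  memZ : InH H (zm w)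
  memQ : ∀ n, InH H (qm w n)
  noTr : ∀ x a : Fin 3 → F, x ≠ 0 → a ≠ 0 → ¬ InTr H x a
  out : ∃ g ∈ H, ¬ MemN w (g : M₃)

/-- Brick A1: in `GL₂(p)` a `p'`-group permutes the eigenlines of its determinant-one elements of order beyond
five modulo scalars. -/
def RotStmt : Prop :=
  ∀ (F : Type u) [Field F] (p : ℕ), p.Prime → 7 ≤ p → Nat.card F = p →
    ∀ (G : Subgroup (GL (Fin 2) F)), ¬ p ∣ Nat.card G → ∀ y ∈ G, (y : Matrix (Fin 2) (Fin 2) F).det = 1 →
      (∀ n : ℕ, 1 ≤ n → n ≤ 5 → ∀ k : F, ((y ^ n : GL (Fin 2) F) : Matrix (Fin 2) (Fin 2) F) ≠ k • 1) →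
        ∀ g ∈ G, g * y * g⁻¹ * y = y * (g * y * g⁻¹)

/-- Brick A2: no sign change in the frame of an element of order three. -/
def DiagStmt : Prop :=
  ∀ (F : Type u) [Field F] (p : ℕ) (w : F) (H : Subgroup (GL (Fin 3) F)), Hard p w H →
    ¬ InH H (!![1, 0, 0; 0, -1, 0; 0, 0, -1] : Matrix (Fin 3) (Fin 3) F)

/-- Brick P1: no involution commutes with a non-scalar element of order three. -/
def ThreeStmt : Prop :=
  ∀ (F : Type u) [Field F] (p : ℕ) (w : F) (H : Subgroup (GL (Fin 3) F)), Hard p w H →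
    ∀ s ∈ H, ∀ x ∈ H, s * s = 1 → s ≠ 1 → x ^ 3 = 1 →
      (∀ k : F, (x : Matrix (Fin 3) (Fin 3) F) ≠ k • 1) → s * x ≠ x * s

/-- Brick P2: an involution inverting a non-scalar element of order three is in standard position. -/
def PairStmt : Prop :=
  ∀ (F : Type u) [Field F] (p : ℕ) (w : F) (H : Subgroup (GL (Fin 3) F)), Hard p w H →
    ∀ s ∈ H, ∀ x ∈ H, s * s = 1 → s ≠ 1 → x ^ 3 = 1 →
      (∀ k : F, (x : Matrix (Fin 3) (Fin 3) F) ≠ k • 1) → s * x * s⁻¹ = x⁻¹ →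
        ∃ g ∈ H, ((g * x * g⁻¹ : GL (Fin 3) F) : Matrix (Fin 3) (Fin 3) F) = zm w ∧
          ((g * s * g⁻¹ : GL (Fin 3) F) : Matrix (Fin 3) (Fin 3) F) = tm₀

/-- Brick A3: an involution commuting with `tm₀` inverts one of the three elements of order four. -/
def AnticommStmt : Prop :=
  ∀ (F : Type u) [Field F] (p : ℕ) (w : F) (H : Subgroup (GL (Fin 3) F)), Hard p w H →
    ∀ A : Matrix (Fin 3) (Fin 3) F, InH H A → A * A = 1 → A * tm₀ = tm₀ * A → A ≠ 1 → A ≠ tm₀ →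
      ∃ n, n < 3 ∧ A * qm w n * A = qm w n ^ 3

/-- Brick Z: the involution has a conjugate distinct from it and commuting with it. -/
def ConjStmt : Prop :=
  ∀ (F : Type u) [Field F] (p : ℕ) (w : F) (H : Subgroup (GL (Fin 3) F)), Hard p w H →
    ∃ g ∈ H, ∃ t : GL (Fin 3) F, (t : Matrix (Fin 3) (Fin 3) F) = tm₀ ∧
      g * t * g⁻¹ ≠ t ∧ g * t * g⁻¹ * t = t * (g * t * g⁻¹)

/-- Brick S: some conjugate of the involution is in a special position. -/
def PositionStmt : Prop :=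
  ∀ (F : Type u) [Field F] (p : ℕ) (w : F) (H : Subgroup (GL (Fin 3) F)), Hard p w H →
    ∃ (n : ℕ) (a : F), n < 3 ∧ a ≠ 0 ∧ 2 * a ^ 2 - a + 2 = 0 ∧
      ∃ g ∈ H, ∃ t : GL (Fin 3) F, (t : Matrix (Fin 3) (Fin 3) F) = tm₀ ∧
        ((g * t * g⁻¹ : GL (Fin 3) F) : Matrix (Fin 3) (Fin 3) F) =
          rfl₃ (w ^ n * a) (w ^ (2 * n) * a⁻¹)

/-- Brick G: the special position is impossible. -/
def OrthStmt : Prop :=
  ∀ (F : Type u) [Field F] (p : ℕ) (w : F) (H : Subgroup (GL (Fin 3) F)), Hard p w H → ∀ a : F,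
    a ≠ 0 → 2 * a ^ 2 - a + 2 = 0 → ∀ g ∈ H, ∀ t : GL (Fin 3) F,
      (t : Matrix (Fin 3) (Fin 3) F) = tm₀ →
        ((g * t * g⁻¹ : GL (Fin 3) F) : Matrix (Fin 3) (Fin 3) F) = rfl₃ a a⁻¹ → False

/-- Brick T: the conclusion for the standard position. -/
def HardStmt : Prop :=
  ∀ (F : Type u) [Field F] (p : ℕ) (w : F) (H : Subgroup (GL (Fin 3) F)), Hard p w H → False

end Cfsg.Agent.Lib.SLThree78.Extra
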